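import Cfsg.Agent.Lib.TC.G.Fi23
import Cfsg.Agent.Lib.TC.Simple

set_option autoImplicit false

namespace Cfsg.Agent.Lib.TC.Data.Fi23S3

open Cfsg.Agent.Lib.TC

noncomputable def aE_0_0 (k : ℕ) : ℕ := Nat.land (Nat.shiftRight (nat_lit 0x6c80e80b407a04d02e80000fa0cc04642721590bc80003b01b90fc095c4302380000a5c56e33513c0bd862e0001bb0e588263b616b8fd000045523a8d5c92a4d325a8000a285342c91550ae83d6000174cbe643632893d4c640003491ac8b686f0369184c0007313e79d44ce67713d8000102088d4181c490dc79100025b0fe28cf477a43d29a0004d728ad39c9ee4282838000aea45829b551aacb497800131eb2c5a62db1718baa00031a149cbeb614aab5896000586b2a9994cea6842f30000de66a4b61d816da96e48001916e287243a19a54e680003d15d8ed69773bc1de4e000704c011f4aea87e33f98000f67851be1a08b06584280021c90268b1c412249144000468e18b184901470e3c6000921498a505223960ca88001301990cd066c32e29c000027813e0a0050828813a1) (Nat.mul (Nat.land k (nat_lit 255)) (nat_lit 13))) (nat_lit 8191)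
noncomputable def aE (k : ℕ) : ℕ := Bool.rec (nat_lit 0) (aE_0_0 k) (Nat.blt k (nat_lit 256))

noncomputable def aR_0_0 (k : ℕ) : ℕ := Nat.land (Nat.shiftRight (nat_lit 0xc94f145ccd7315cb972a50000000c10f125bc170d5c254000bc4c000bbcee23b2d6e750002b33ac8ea3300026c5aa140009cce72398ce2f5b84e48500026e39b4c0009ace613919400094ce52390ce0f59316c0300023138c0c000888c00081d4000844e103000202372d66030001f43790df250001ed56a540006d0da436c940005b562030001853000193564558e552940005d0d6435c95305804d6950001453000153554550e5780c0000001493520d473518d403000105300011353455a13429400000010d3430d0b3404c0000000c532514b35588cce532940000000d0333ccc230000c750000a531d152332c54ae52a9400000008431c9400023548950000000190cc3314146d51a540001ccc00018cc4f51b1468500005130000000108c2b511d40000b8c2d30b0c000084c06500000a3024c08301cc000000c000064418105c41610544000) (Nat.mul (Nat.land k (nat_lit 255)) (nat_lit 14))) (nat_lit 16383)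
noncomputable def aR (k : ℕ) : ℕ := Bool.rec (nat_lit 0) (aR_0_0 k) (Nat.blt k (nat_lit 256))

noncomputable def aK_0_0 (k : ℕ) : ℕ := Nat.land (Nat.shiftRight (nat_lit 0xb4aca39688868179726d5f59514b463d392f2c2820191810080000) (Nat.mul (Nat.land k (nat_lit 255)) (nat_lit 8))) (nat_lit 255)
noncomputable def aK (k : ℕ) : ℕ := Bool.rec (nat_lit 0) (aK_0_0 k) (Nat.blt k (nat_lit 256))

noncomputable def aT_0_0 (k : ℕ) : ℕ := Nat.land (Nat.shiftRight (nat_lit 0x33ad6b5ad6339ce719c5f18bdeb8b5ed69daf4ad6f59d694952969ced1aca52a42538be338c20d849d1645ef7b5cb73a0e541ad5bdec6318a439696adaa5290c324eb4a5684194829d2739d242a0c638cc529486190841948218c4210c22084211000000001) (Nat.mul (Nat.land k (nat_lit 255)) (nat_lit 5))) (nat_lit 31)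
noncomputable def aT (k : ℕ) : ℕ := Bool.rec (nat_lit 0) (aT_0_0 k) (Nat.blt k (nat_lit 256))

noncomputable def aN_0_0 (k : ℕ) : ℕ := Nat.land (Nat.shiftRight (nat_lit 0x6b38bdab49ca307b9ac5a928398a418820) (Nat.mul (Nat.land k (nat_lit 255)) (nat_lit 5))) (nat_lit 31)
noncomputable def aN (k : ℕ) : ℕ := Bool.rec (nat_lit 0) (aN_0_0 k) (Nat.blt k (nat_lit 256))

noncomputable def tT (i g : ℕ) : ℕ := aT (Nat.add (Nat.mul i (nat_lit 6)) g)

def words : List (List ℕ) := [[0,0],[1,1],[2,2],[3,3],[4,4],[5,5],[0,1,0,1,0,1],[0,2,0,2],[0,3,0,3],[0,4,0,4],[0,5,0,5],[1,2,1,2,1,2],[1,3,1,3],[1,4,1,4],[1,5,1,5],[2,3,2,3,2,3],[2,4,2,4,2,4],[2,5,2,5],[3,4,3,4],[3,5,3,5],[4,5,4,5,4,5],[1],[2],[3],[4],[5]]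

noncomputable def Fk (k : ℕ) : Bool := checkKey (nat_lit 7) (nat_lit 6) (nat_lit 5) (nat_lit 31) aE (wordAt words) (nat_lit 21) (nat_lit 26) aR aK (nat_lit 14) (nat_lit 3) (nat_lit 7) (nat_lit 5) (nat_lit 31) k

noncomputable def cert : Cert where
  sz := 7
  ep := 6
  b := 5
  m := 31
  E := aE
  W := wordAt words
  nrel := 21
  nW := 26
  K := 256
  R := aR
  pk := aK
  fuel := 14
  bp := 3
  mp := 7
  bw := 5
  mw := 31

noncomputable def Fp (i : ℕ) : Bool := ptFin2 (nat_lit 27) (nat_lit 6) tT aN (nat_lit 7) (nat_lit 6) (nat_lit 5) (nat_lit 31) aE (nat_lit 14) i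

end Cfsg.Agent.Lib.TC.Data.Fi23S3
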